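import Cfsg.Agent.PGroup.Critical

/-!
Coprime automorphisms of class two p-subgroups and their elements of small order.
-/

set_option autoImplicit false

open scoped commutatorElement

namespace CfsgLib.PGroup

variable {P : Type*} [Group P] {p : ℕ} [hp : Fact p.Prime]

/-- If `x⁻¹ α(x)` is fixed by the coprime automorphism `α` of a p-group, then `x` is fixed. -/
theorem apply_eq_of_diff_fixed (hP : IsPGroup p P) {α : MulAut P} (hco : (orderOf α).Coprime p) {x : P}
    (h : α (x⁻¹ * α x) = x⁻¹ * α x) : α x = x := by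
  set c := x⁻¹ * α x with hc
  have hpow : ∀ n : ℕ, (α ^ n) x = x * c ^ n := by
    intro n
    induction n with
    | zero => simp
    | succ k ih =>
      rw [pow_succ', MulAut.mul_apply, ih, map_mul, map_pow, h, pow_succ', hc]
      simp [mul_assoc]
  have h1 : c ^ orderOf α = 1 := by
    have := hpow (orderOf α)
    rw [pow_orderOf_eq_one, MulAut.one_apply] at this
    simpa using this.symm
  have hc1 : c = 1 := by
    by_contra hne
    exact hp.out.not_dvd_one (hco ▸ Nat.dvd_gcd
      ((hP.dvd_orderOf hne).trans (orderOf_dvd_of_pow_eq_one h1)) dvd_rfl)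
  exact ((inv_mul_eq_one (a := x)).mp (hc ▸ hc1)).symm

/-- The exponent `p` for odd `p` and `4` for `p = 2`. -/
def smallExp (p : ℕ) : ℕ := if p = 2 then 4 else p

theorem dvd_smallExp (p : ℕ) : p ∣ smallExp p := by
  unfold smallExp; split
  · subst p; norm_num
  · exact dvd_rfl

theorem dvd_choose_smallExp : p ∣ (smallExp p).choose 2 := by
  unfold smallExp; split
  · subst p; decide
  · exact dvd_choose_two ‹_›

/-- If `p`-th powers commute with the class two subgroup `H`, the `smallExp p`-th power is multiplicative on it. -/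
theorem mul_pow_smallExp {H : Subgroup P} (hpow : ∀ x ∈ H, x ^ p ∈ Subgroup.centralizer (H : Set P))
    (hcl : ∀ x ∈ H, ∀ y ∈ H, ⁅x, y⁆ ∈ Subgroup.centralizer (H : Set P)) {x y : P} (hx : x ∈ H) (hy : y ∈ H) :
    (x * y) ^ smallExp p = x ^ smallExp p * y ^ smallExp p := by
  have h2 : ∀ a b : H, ⁅a, b⁆ ∈ Subgroup.center H := fun a b => Subgroup.mem_center_iff.mpr fun g =>
    Subtype.ext (Subgroup.mem_centralizer_iff.mp (hcl a a.2 b b.2) g g.2)
  set x' : H := ⟨x, hx⟩
  set y' : H := ⟨y, hy⟩
  have h3 := mul_pow_central (h2 y' x') (smallExp p)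
  have hc : ⁅y', x'⁆ ^ p = 1 := by
    rw [← commutator_pow_left h2, commutatorElement_eq_one_iff_mul_comm]
    exact Subtype.ext (Subgroup.mem_centralizer_iff.mp (hpow y hy) x hx).symm
  obtain ⟨k, hk⟩ := dvd_choose_smallExp (p := p)
  rw [hk, pow_mul, hc, one_pow, mul_one] at h3
  exact congrArg Subtype.val h3

/-- A coprime automorphism fixing the elements of order dividing `smallExp p` of an invariant class two subgroup fixes it. -/
theorem fixes_of_fixes_small [Finite P] (hP : IsPGroup p P) {H K : Subgroup P}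
    (hpow : ∀ x ∈ H, x ^ p ∈ Subgroup.centralizer (H : Set P))
    (hcl : ∀ x ∈ H, ∀ y ∈ H, ⁅x, y⁆ ∈ Subgroup.centralizer (H : Set P)) (hKH : K ≤ H)
    {α : MulAut P} (hco : (orderOf α).Coprime p) (hinv : ∀ x ∈ K, α x ∈ K)
    (hfix : ∀ x ∈ K, x ^ smallExp p = 1 → α x = x) : ∀ x ∈ K, α x = x := by
  intro x
  induction hn : orderOf x using Nat.strong_induction_on generalizing x with
  | _ n ih =>
    intro hx
    have hq : α (x ^ smallExp p) = x ^ smallExp p := by
      by_cases h1 : x ^ smallExp p = 1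
      · rw [h1, map_one]
      · refine ih (orderOf (x ^ smallExp p)) ?_ _ rfl (K.pow_mem hx _)
        have hpd : p ∣ orderOf x := hP.dvd_orderOf fun h => h1 (by rw [h, one_pow])
        rw [orderOf_pow, ← hn]
        refine Nat.div_lt_self (orderOf_pos x) ?_
        have := Nat.le_of_dvd (Nat.gcd_pos_of_pos_left _ (orderOf_pos x)) (Nat.dvd_gcd hpd (dvd_smallExp p))
        have := hp.out.two_le
        omega
    refine apply_eq_of_diff_fixed hP hco (hfix _ (K.mul_mem (K.inv_mem hx) (hinv x hx)) ?_)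
    rw [mul_pow_smallExp hpow hcl (hKH (K.inv_mem hx)) (hKH (hinv x hx)), inv_pow, ← map_pow, hq, inv_mul_cancel]

/-- Elements of order dividing `smallExp p` in an invariant subgroup of a class two subgroup. -/
def smallSubgroup (H K : Subgroup P) (hpow : ∀ x ∈ H, x ^ p ∈ Subgroup.centralizer (H : Set P))
    (hcl : ∀ x ∈ H, ∀ y ∈ H, ⁅x, y⁆ ∈ Subgroup.centralizer (H : Set P)) (hKH : K ≤ H) : Subgroup P where
  carrier := {x | x ∈ K ∧ x ^ smallExp p = 1}
  one_mem' := ⟨K.one_mem, one_pow _⟩
  mul_mem' := by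
    rintro a b ⟨ha, ha'⟩ ⟨hb, hb'⟩
    exact ⟨K.mul_mem ha hb, by rw [mul_pow_smallExp hpow hcl (hKH ha) (hKH hb), ha', hb', one_mul]⟩
  inv_mem' := by
    rintro a ⟨ha, ha'⟩
    exact ⟨K.inv_mem ha, by rw [inv_pow, ha', inv_one]⟩

end CfsgLib.PGroup
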